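import Cfsg.Agent.H691.L34.Def

/-!
# S5917 (`L₃(4)` in `E₈(2)`), row N1: from a submodule of type 9 over `F₂` to a linear map over `K` (helper436)

`exists_Phi` : `φ : Herm₃(F₄) → F₂^I` additive and injective extends to a `K`-linear injective map
`Φ : M₃(K) → K^I` with `Φ (X^Fr)ᵀ = Fr (Φ X)`, and with the action `Φ (g X g*) = A_K (Φ X)`.
-/

set_option autoImplicit false

namespace Cfsg.Agent.H436.L34

open Matrix Cfsg.Agent.H691.L34

section

variable {F : Type} [Field F] {K : Type*} [Field K]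

/-- the basis of the hermitian matrices -/
def bs (ω : F) : Fin 9 → M3 F :=
  ![!![1, 0, 0; 0, 0, 0; 0, 0, 0], !![0, 0, 0; 0, 1, 0; 0, 0, 0], !![0, 0, 0; 0, 0, 0; 0, 0, 1],
    !![0, 1, 0; 1, 0, 0; 0, 0, 0], !![0, ω, 0; ω ^ 2, 0, 0; 0, 0, 0],
    !![0, 0, 1; 0, 0, 0; 1, 0, 0], !![0, 0, ω; 0, 0, 0; ω ^ 2, 0, 0],
    !![0, 0, 0; 0, 0, 1; 0, 1, 0], !![0, 0, 0; 0, 0, ω; 0, ω ^ 2, 0]]

/-- the coordinates -/
def co (w : K) (X : Matrix (Fin 3) (Fin 3) K) : Fin 9 → K :=
  ![X 0 0, X 1 1, X 2 2, w ^ 2 * X 0 1 + w * X 1 0, X 0 1 + X 1 0, w ^ 2 * X 0 2 + w * X 2 0, X 0 2 + X 2 0,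
    w ^ 2 * X 1 2 + w * X 2 1, X 1 2 + X 2 1]

theorem co_add (w : K) (X Y : Matrix (Fin 3) (Fin 3) K) (k : Fin 9) : co w (X + Y) k = co w X k + co w Y k := by
  fin_cases k <;> simp [co] <;> ring

theorem co_smul (w c : K) (X : Matrix (Fin 3) (Fin 3) K) (k : Fin 9) : co w (c • X) k = c * co w X k := by
  fin_cases k <;> simp [co] <;> ring

theorem two_eq_zero [Fintype F] (hF : Fintype.card F = 4) : (2 : F) = 0 := by
  have h1 : ((4 : ℕ) : F) = 0 := by rw [← hF]; exact Nat.cast_card_eq_zero F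
  have h2 : (2 : F) ^ 2 = 0 := by rw [← h1]; norm_num
  exact pow_eq_zero_iff (by norm_num) |>.1 h2

/-- the element of order 3 -/
theorem exists_omega [Fintype F] (hF : Fintype.card F = 4) : ∃ ω : F, ω ^ 2 + ω + 1 = 0 := by
  classical
  obtain ⟨ω, hω⟩ : ∃ ω : F, ω ∉ ({0, 1} : Finset F) := by
    by_contra h
    push Not at h
    have h1 := Finset.card_le_card (show (Finset.univ : Finset F) ⊆ {0, 1} from fun x _ => h x)
    rw [Finset.card_univ, hF] at h1
    have h2 := Finset.card_le_two (a := (0 : F)) (b := 1)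
    omega
  rw [Finset.mem_insert, Finset.mem_singleton, not_or] at hω
  refine ⟨ω, ?_⟩
  have h3 : ω ^ 3 = 1 := by
    have := FiniteField.pow_card_sub_one_eq_one ω hω.1
    rwa [hF] at this
  have h4 : (ω - 1) * (ω ^ 2 + ω + 1) = 0 := by
    have : (ω - 1) * (ω ^ 2 + ω + 1) = ω ^ 3 - 1 := by ring
    rw [this, h3, sub_self]
  exact (mul_eq_zero.1 h4).resolve_left (sub_ne_zero.2 hω.2)

theorem pow_four [Fintype F] (hF : Fintype.card F = 4) (a : F) : a ^ 4 = a := by
  have := FiniteField.pow_card a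
  rwa [hF] at this

theorem dec (h2 : (2 : K) = 0) (ι : F →+* K) {ω : F} (hω : ω ^ 2 + ω + 1 = 0) (X : Matrix (Fin 3) (Fin 3) K) :
    ∑ k, co (ι ω) X k • (bs ω k).map ι = X := by
  have hw : (ι ω) ^ 2 = ι ω + 1 := by
    have h := congrArg ι hω
    rw [map_add, map_add, map_pow, map_one, map_zero] at h
    linear_combination h - (ι ω + 1) * h2
  ext i j
  simp only [Fin.sum_univ_succ, Fin.sum_univ_zero, Matrix.add_apply, Matrix.smul_apply, Matrix.map_apply]
  fin_cases i <;> fin_cases j <;> simp [co, bs, hw]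
  · linear_combination (ι ω * (X 0 1 + X 1 0)) * h2
  · linear_combination (ι ω * (X 0 2 + X 2 0)) * h2
  · linear_combination ((ι ω + 1) * X 0 1 + ι ω * X 1 0) * h2
  · linear_combination (ι ω * (X 1 2 + X 2 1)) * h2
  · linear_combination ((ι ω + 1) * X 0 2 + ι ω * X 2 0) * h2
  · linear_combination ((ι ω + 1) * X 1 2 + ι ω * X 2 1) * h2

/-- the basis consists of hermitian matrices -/
theorem hf_bs {ω : F} (hω : ω ^ 4 = ω) (k : Fin 9) : HF (bs ω k) := by
  unfold HF ct
  ext i j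
  fin_cases k <;> fin_cases i <;> fin_cases j <;> simp [bs, ← pow_mul, hω]

theorem hf_smul {c : F} (hc : c = 0 ∨ c = 1) {X : M3 F} (hX : HF X) : HF (c • X) := by
  rcases hc with rfl | rfl
  · rw [zero_smul]
    unfold HF ct
    ext i j
    simp
  · rwa [one_smul]

theorem hf_zero : HF (0 : M3 F) := by
  unfold HF ct
  ext i j
  simp

theorem hf_add (h2 : (2 : F) = 0) {X Y : M3 F} (hX : HF X) (hY : HF Y) : HF (X + Y) := by
  unfold HF ct at *
  ext i j
  have e1 := congrFun (congrFun hX i) j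
  have e2 := congrFun (congrFun hY i) j
  simp only [Matrix.transpose_apply, Matrix.map_apply, Matrix.add_apply] at e1 e2 ⊢
  linear_combination e1 + e2 + X j i * Y j i * h2

theorem hf_entry {X : M3 F} (hX : HF X) (i j : Fin 3) : X j i ^ 2 = X i j := by
  have e1 := congrFun (congrFun hX i) j
  simpa [ct] using e1

/-- the coordinates of a hermitian matrix are `0` or `1` -/
theorem co_sq (h2 : (2 : F) = 0) {ω : F} (hω : ω ^ 2 + ω + 1 = 0) {X : M3 F} (hX : HF X) (k : Fin 9) :
    co ω X k = 0 ∨ co ω X k = 1 := by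
  have key : co ω X k ^ 2 = co ω X k := by
    have a0 := hf_entry hX 0 0
    have a1 := hf_entry hX 1 1
    have a2 := hf_entry hX 2 2
    have b01 := hf_entry hX 0 1
    have b10 := hf_entry hX 1 0
    have b02 := hf_entry hX 0 2
    have b20 := hf_entry hX 2 0
    have b12 := hf_entry hX 1 2
    have b21 := hf_entry hX 2 1
    fin_cases k
    · exact a0
    · exact a1
    · exact a2
    · show (ω ^ 2 * X 0 1 + ω * X 1 0) ^ 2 = ω ^ 2 * X 0 1 + ω * X 1 0
      linear_combination ω ^ 4 * b10 + ω ^ 2 * b01 + ω * (ω - 1) * X 1 0 * hω + ω ^ 3 * X 0 1 * X 1 0 * h2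
    · show (X 0 1 + X 1 0) ^ 2 = X 0 1 + X 1 0
      linear_combination b10 + b01 + X 0 1 * X 1 0 * h2
    · show (ω ^ 2 * X 0 2 + ω * X 2 0) ^ 2 = ω ^ 2 * X 0 2 + ω * X 2 0
      linear_combination ω ^ 4 * b20 + ω ^ 2 * b02 + ω * (ω - 1) * X 2 0 * hω + ω ^ 3 * X 0 2 * X 2 0 * h2
    · show (X 0 2 + X 2 0) ^ 2 = X 0 2 + X 2 0
      linear_combination b20 + b02 + X 0 2 * X 2 0 * h2
    · show (ω ^ 2 * X 1 2 + ω * X 2 1) ^ 2 = ω ^ 2 * X 1 2 + ω * X 2 1
      linear_combination ω ^ 4 * b21 + ω ^ 2 * b12 + ω * (ω - 1) * X 2 1 * hω + ω ^ 3 * X 1 2 * X 2 1 * h2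
    · show (X 1 2 + X 2 1) ^ 2 = X 1 2 + X 2 1
      linear_combination b21 + b12 + X 1 2 * X 2 1 * h2
  have h3 : co ω X k * (co ω X k - 1) = 0 := by linear_combination key
  rcases mul_eq_zero.1 h3 with h | h
  · exact Or.inl h
  · exact Or.inr (sub_eq_zero.1 h)

/-- the coordinates and the hermitian Frobenius map -/
theorem co_frob (h2 : (2 : K) = 0) {w : K} (hw : w ^ 2 + w + 1 = 0) (X : Matrix (Fin 3) (Fin 3) K) (k : Fin 9) :
    co w (X.map fun a => a ^ 2).transpose k = co w X k ^ 2 := by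
  fin_cases k
  · rfl
  · rfl
  · rfl
  · show w ^ 2 * X 1 0 ^ 2 + w * X 0 1 ^ 2 = (w ^ 2 * X 0 1 + w * X 1 0) ^ 2
    linear_combination (-(w * (w - 1) * X 0 1 ^ 2)) * hw - w ^ 3 * X 0 1 * X 1 0 * h2
  · show X 1 0 ^ 2 + X 0 1 ^ 2 = (X 0 1 + X 1 0) ^ 2
    linear_combination (-(X 0 1 * X 1 0)) * h2
  · show w ^ 2 * X 2 0 ^ 2 + w * X 0 2 ^ 2 = (w ^ 2 * X 0 2 + w * X 2 0) ^ 2
    linear_combination (-(w * (w - 1) * X 0 2 ^ 2)) * hw - w ^ 3 * X 0 2 * X 2 0 * h2
  · show X 2 0 ^ 2 + X 0 2 ^ 2 = (X 0 2 + X 2 0) ^ 2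
    linear_combination (-(X 0 2 * X 2 0)) * h2
  · show w ^ 2 * X 2 1 ^ 2 + w * X 1 2 ^ 2 = (w ^ 2 * X 1 2 + w * X 2 1) ^ 2
    linear_combination (-(w * (w - 1) * X 1 2 ^ 2)) * hw - w ^ 3 * X 1 2 * X 2 1 * h2
  · show X 2 1 ^ 2 + X 1 2 ^ 2 = (X 1 2 + X 2 1) ^ 2
    linear_combination (-(X 1 2 * X 2 1)) * h2

/-- the coordinates of the members of the basis -/
theorem co_bs (h2 : (2 : K) = 0) (ι : F →+* K) {ω : F} (hω : ω ^ 2 + ω + 1 = 0) (l k : Fin 9) :
    co (ι ω) ((bs ω l).map ι) k = if k = l then 1 else 0 := by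
  have hw : (ι ω) ^ 2 = ι ω + 1 := by
    have h := congrArg ι hω
    rw [map_add, map_add, map_pow, map_one, map_zero] at h
    linear_combination h - (ι ω + 1) * h2
  fin_cases l <;> fin_cases k <;> simp [co, bs, hw]
  all_goals first
    | linear_combination h2
    | linear_combination (ι ω) * h2
    | linear_combination (ι ω * (ι ω + 1)) * h2

/-- `co` and the decomposition -/
theorem sum_bs [Fintype F] (h2 : (2 : F) = 0) {ω : F} (hω : ω ^ 2 + ω + 1 = 0) (X : M3 F) :
    ∑ k, co ω X k • bs ω k = X := by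
  have h := dec h2 (RingHom.id F) hω X
  have e : ∀ k, (bs ω k).map (RingHom.id F) = bs ω k := fun k => by
    ext i j
    rfl
  simpa only [RingHom.id_apply, e] using h

section Phi

variable {I : Type*}

/-- the lift of a vector -/
def jj (K : Type*) [Field K] (v : I → ZMod 2) (i : I) : K := if v i = 0 then 0 else 1

theorem jj_zero : jj K (0 : I → ZMod 2) = 0 := by
  funext i
  simp [jj]

theorem zmod_two (a : ZMod 2) : a = 0 ∨ a = 1 := by
  revert a
  decide

theorem jj_add (h2 : (2 : K) = 0) (u v : I → ZMod 2) : jj K (u + v) = jj K u + jj K v := by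
  funext i
  show jj K (u + v) i = jj K u i + jj K v i
  unfold jj
  have e : (u + v) i = u i + v i := rfl
  rw [e]
  have h11 : (1 : ZMod 2) + 1 = 0 := by decide
  have k11 : (1 : K) + 1 = 0 := by linear_combination h2
  rcases zmod_two (u i) with h | h <;> rcases zmod_two (v i) with h' | h' <;> simp [h, h', h11, k11]

theorem jj_sq (v : I → ZMod 2) (i : I) : jj K v i ^ 2 = jj K v i := by
  unfold jj
  split_ifs <;> simp

variable {φ : M3 F → I → ZMod 2}

theorem phi_zero (h1 : ∀ X Y, HF X → HF Y → φ (X + Y) = φ X + φ Y) : φ 0 = 0 := by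
  have h := h1 0 0 hf_zero hf_zero
  rw [add_zero] at h
  exact (left_eq_add.1 h)

theorem phi_sum (h2 : (2 : F) = 0) (h1 : ∀ X Y, HF X → HF Y → φ (X + Y) = φ X + φ Y) {n : ℕ} (f : Fin n → M3 F)
    (hf : ∀ k, HF (f k)) : HF (∑ k, f k) ∧ φ (∑ k, f k) = ∑ k, φ (f k) := by
  induction n with
  | zero => simp [hf_zero, phi_zero h1]
  | succ n ih =>
    obtain ⟨e1, e2⟩ := ih (fun k => f k.castSucc) fun k => hf _
    rw [Fin.sum_univ_castSucc, Fin.sum_univ_castSucc]
    exact ⟨hf_add h2 e1 (hf _), by rw [h1 _ _ e1 (hf _), e2]⟩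

/-- the linear map -/
noncomputable def Phi (w : K) (v : Fin 9 → I → K) : Matrix (Fin 3) (Fin 3) K →ₗ[K] (I → K) where
  toFun X := ∑ k, co w X k • v k
  map_add' X Y := by
    rw [← Finset.sum_add_distrib]
    exact Finset.sum_congr rfl fun k _ => by rw [co_add, add_smul]
  map_smul' c X := by
    rw [RingHom.id_apply, Finset.smul_sum]
    exact Finset.sum_congr rfl fun k _ => by rw [co_smul, mul_smul]

theorem Phi_apply (w : K) (v : Fin 9 → I → K) (X : Matrix (Fin 3) (Fin 3) K) : Phi w v X = ∑ k, co w X k • v k := rfl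

theorem Phi_bs (h2 : (2 : K) = 0) (ι : F →+* K) {ω : F} (hω : ω ^ 2 + ω + 1 = 0) (v : Fin 9 → I → K) (l : Fin 9) :
    Phi (ι ω) v ((bs ω l).map ι) = v l := by
  rw [Phi_apply]
  rw [Finset.sum_eq_single l]
  · rw [co_bs h2 ι hω, if_pos rfl, one_smul]
  · intro k _ hk
    rw [co_bs h2 ι hω, if_neg hk, zero_smul]
  · intro h
    exact absurd (Finset.mem_univ _) h

theorem charP_two (h2 : (2 : K) = 0) : CharP K 2 :=
  (CharP.charP_iff_prime_eq_zero Nat.prime_two).2 (by exact_mod_cast h2)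

theorem jj_eq [CharP K 2] (v : I → ZMod 2) (i : I) :
    jj K v i = ZMod.castHom (dvd_refl 2) K (v i) := by
  unfold jj
  rcases zmod_two (v i) with h | h
  · rw [h, map_zero, if_pos rfl]
  · rw [h, map_one, if_neg (by decide)]

/-- independence is preserved by the extension of the field -/
theorem indep_of [Finite I] (h2 : (2 : K) = 0) (u : Fin 9 → I → ZMod 2)
    (hu : ∀ c : Fin 9 → ZMod 2, ∑ k, c k • u k = 0 → c = 0) {a : Fin 9 → K} (ha : ∑ k, a k • jj K (u k) = 0) :
    a = 0 := by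
  classical
  have := Fintype.ofFinite I
  have := charP_two h2
  let S : (Fin 9 → ZMod 2) →ₗ[ZMod 2] (I → ZMod 2) :=
    { toFun := fun c => ∑ k, c k • u k
      map_add' := fun c d => by
        rw [← Finset.sum_add_distrib]
        exact Finset.sum_congr rfl fun k _ => by rw [Pi.add_apply, add_smul]
      map_smul' := fun c d => by
        rw [RingHom.id_apply, Finset.smul_sum]
        exact Finset.sum_congr rfl fun k _ => by rw [Pi.smul_apply, smul_eq_mul, mul_smul] }
  have hS : LinearMap.ker S = ⊥ := by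
    rw [LinearMap.ker_eq_bot']
    exact hu
  obtain ⟨T, hT⟩ := LinearMap.exists_leftInverse_of_injective S hS
  have hTu : ∀ k, T (u k) = Pi.single k 1 := by
    intro k
    have e : S (Pi.single k 1) = u k := by
      show ∑ l, (Pi.single k 1 : Fin 9 → ZMod 2) l • u l = u k
      rw [Finset.sum_eq_single k]
      · rw [Pi.single_eq_same, one_smul]
      · intro l _ hl
        rw [Pi.single_eq_of_ne hl, zero_smul]
      · intro h
        exact absurd (Finset.mem_univ _) h
    rw [← e]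
    exact LinearMap.congr_fun hT _
  have hTm : ∀ (v : I → ZMod 2) (l : Fin 9), T v l = ∑ i, v i * T (Pi.single i 1) l := by
    intro v l
    have e : v = ∑ i, v i • (Pi.single i (1 : ZMod 2) : I → ZMod 2) := by
      funext j
      rw [Finset.sum_apply, Finset.sum_eq_single j]
      · simp
      · intro i _ hi
        simp [Pi.single_eq_of_ne hi.symm]
      · intro h
        exact absurd (Finset.mem_univ _) h
    conv_lhs => rw [e]
    rw [map_sum, Finset.sum_apply]
    exact Finset.sum_congr rfl fun i _ => by rw [map_smul, Pi.smul_apply, smul_eq_mul]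
  funext l
  have hr : ∀ k, ∑ i, ZMod.castHom (dvd_refl 2) K (T (Pi.single i 1) l) * jj K (u k) i = if k = l then 1 else 0 := by
    intro k
    have e1 := hTm (u k) l
    rw [hTu] at e1
    have e2 := congrArg (ZMod.castHom (dvd_refl 2) K) e1
    rw [map_sum] at e2
    have e3 : ∑ i, ZMod.castHom (dvd_refl 2) K (T (Pi.single i 1) l) * jj K (u k) i =
        ∑ i, ZMod.castHom (dvd_refl 2) K (u k i * T (Pi.single i 1) l) :=
      Finset.sum_congr rfl fun i _ => by rw [map_mul, jj_eq, mul_comm]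
    rw [e3, ← e2]
    by_cases hkl : k = l
    · rw [hkl, Pi.single_eq_same, if_pos rfl, map_one]
    · rw [Pi.single_eq_of_ne (Ne.symm hkl), if_neg hkl, map_zero]
  have e4 : ∑ i, ZMod.castHom (dvd_refl 2) K (T (Pi.single i 1) l) * (∑ k, a k • jj K (u k)) i = a l := by
    have e5 : ∀ i, ZMod.castHom (dvd_refl 2) K (T (Pi.single i 1) l) * (∑ k, a k • jj K (u k)) i =
        ∑ k, a k * (ZMod.castHom (dvd_refl 2) K (T (Pi.single i 1) l) * jj K (u k) i) := by
      intro i
      rw [Finset.sum_apply, Finset.mul_sum]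
      exact Finset.sum_congr rfl fun k _ => by
        rw [Pi.smul_apply, smul_eq_mul]
        ring
    rw [Finset.sum_congr rfl fun i _ => e5 i, Finset.sum_comm]
    rw [Finset.sum_congr rfl fun k _ => (Finset.mul_sum _ _ _).symm]
    rw [Finset.sum_congr rfl fun k _ => by rw [hr k], Finset.sum_eq_single l]
    · rw [if_pos rfl, mul_one]
    · intro k _ hk
      rw [if_neg hk, mul_zero]
    · intro h
      exact absurd (Finset.mem_univ _) h
  rw [← e4, ha]
  simp

theorem two_K [Fintype F] (hF : Fintype.card F = 4) (ι : F →+* K) : (2 : K) = 0 := by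
  have h := congrArg ι (two_eq_zero hF)
  rwa [map_zero, map_ofNat] at h

theorem ct_map (ι : F →+* K) (g : M3 F) : (ct g).map ι = ((g.map ι).map fun a => a ^ 2).transpose := by
  ext i j
  simp [ct]

/-- **from `F₂` to `K`** -/
theorem exists_Phi [Fintype F] [Finite I] (hF : Fintype.card F = 4) (ι : F →+* K)
    (h1 : ∀ X Y, HF X → HF Y → φ (X + Y) = φ X + φ Y) (h0 : ∀ X, HF X → φ X = 0 → X = 0) :
    ∃ Φ : Matrix (Fin 3) (Fin 3) K →ₗ[K] (I → K), Function.Injective Φ ∧
      (∀ X, HF X → Φ (X.map ι) = jj K (φ X)) ∧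
      (∀ X i, Φ (X.map fun a => a ^ 2).transpose i = Φ X i ^ 2) ∧
      (∀ (A : (I → ZMod 2) → I → ZMod 2) (AK : (I → K) →ₗ[K] (I → K)), (∀ v, AK (jj K v) = jj K (A v)) →
        ∀ g : G3 F, (∀ X, HF X → A (φ X) = φ (hact g X)) →
          ∀ X, AK (Φ X) = Φ ((g : M3 F).map ι * X * (ct (g : M3 F)).map ι)) ∧
      ∀ X, Φ X ∈ Submodule.span K {v | ∃ Y, HF Y ∧ v = jj K (φ Y)} := by
  classical
  have h2 := two_eq_zero hF
  have h2K := two_K hF ι
  obtain ⟨ω, hω⟩ := exists_omega hF
  have hwK : (ι ω) ^ 2 + ι ω + 1 = 0 := by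
    have h := congrArg ι hω
    rwa [map_add, map_add, map_pow, map_one, map_zero] at h
  have hb := hf_bs (pow_four hF ω)
  have hval : ∀ X, HF X → Phi (ι ω) (fun k => jj K (φ (bs ω k))) (X.map ι) = jj K (φ X) := by
    intro X hX
    have e1 : φ X = ∑ k, φ (co ω X k • bs ω k) := by
      conv_lhs => rw [← sum_bs h2 hω X]
      exact (phi_sum h2 h1 _ fun k => hf_smul (co_sq h2 hω hX k) (hb k)).2
    have e2 : ∀ {n : ℕ} (f : Fin n → I → ZMod 2), jj K (∑ k, f k) = ∑ k, jj K (f k) := by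
      intro n f
      induction n with
      | zero => simp [jj_zero]
      | succ n ih => rw [Fin.sum_univ_castSucc, Fin.sum_univ_castSucc, jj_add h2K, ih]
    rw [e1, e2, Phi_apply]
    refine Finset.sum_congr rfl fun k _ => ?_
    have e3 : co (ι ω) (X.map ι) k = ι (co ω X k) := by
      fin_cases k <;> simp [co]
    rw [e3]
    rcases co_sq h2 hω hX k with h | h
    · rw [h, map_zero, zero_smul, zero_smul, phi_zero h1, jj_zero]
    · rw [h, map_one, one_smul, one_smul]
  refine ⟨Phi (ι ω) fun k => jj K (φ (bs ω k)), ?_, hval, ?_, ?_, ?_⟩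
  · rw [← LinearMap.ker_eq_bot, LinearMap.ker_eq_bot']
    intro X hX
    have e1 := indep_of (K := K) h2K (fun k => φ (bs ω k)) (fun c hc => by
      have e2 : φ (∑ k, (if c k = 0 then (0 : F) else 1) • bs ω k) = ∑ k, c k • φ (bs ω k) := by
        rw [(phi_sum h2 h1 _ fun k => hf_smul (by split_ifs <;> simp) (hb k)).2]
        refine Finset.sum_congr rfl fun k _ => ?_
        rcases zmod_two (c k) with h | h
        · rw [h, if_pos rfl, zero_smul, zero_smul, phi_zero h1]
        · rw [h, if_neg (by decide), one_smul, one_smul]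
      rw [hc] at e2
      have e3 := h0 _ (phi_sum h2 h1 _ fun k => hf_smul (by split_ifs <;> simp) (hb k)).1 e2
      funext l
      have e4 : co (ι ω) ((∑ k, (if c k = 0 then (0 : F) else 1) • bs ω k).map ι) l = if c l = 0 then 0 else 1 := by
        have e5 : (∑ k, (if c k = 0 then (0 : F) else 1) • bs ω k).map ι =
            ∑ k, (if c k = 0 then (0 : K) else 1) • (bs ω k).map ι := by
          ext i j
          simp only [Matrix.map_apply, Matrix.sum_apply, Matrix.smul_apply, map_sum, smul_eq_mul, map_mul]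
          refine Finset.sum_congr rfl fun k _ => ?_
          split_ifs <;> simp
        rw [e5]
        have e6 : ∀ {n : ℕ} (f : Fin n → Matrix (Fin 3) (Fin 3) K), co (ι ω) (∑ k, f k) l = ∑ k, co (ι ω) (f k) l := by
          intro n f
          induction n with
          | zero => fin_cases l <;> simp [co]
          | succ n ih => rw [Fin.sum_univ_castSucc, Fin.sum_univ_castSucc, co_add, ih]
        rw [e6, Finset.sum_eq_single l]
        · rw [co_smul, co_bs h2K ι hω, if_pos rfl, mul_one]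
        · intro k _ hk
          rw [co_smul, co_bs h2K ι hω, if_neg (Ne.symm hk), mul_zero]
        · intro h
          exact absurd (Finset.mem_univ _) h
      rw [e3] at e4
      have e7 : co (ι ω) ((0 : M3 F).map ι) l = 0 := by fin_cases l <;> simp [co]
      rw [e7] at e4
      by_contra h
      have h' : c l ≠ 0 := h
      rw [if_neg h'] at e4
      exact zero_ne_one e4) (a := co (ι ω) X) hX
    rw [← dec h2K ι hω X]
    refine Finset.sum_eq_zero fun k _ => ?_
    rw [congrFun e1 k, Pi.zero_apply, zero_smul]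
  · intro X i
    have := charP_two h2K
    rw [Phi_apply, Phi_apply, Finset.sum_apply, Finset.sum_apply]
    have e := map_sum (frobenius K 2) (fun k => (co (ι ω) X k • jj K (φ (bs ω k))) i) Finset.univ
    simp only [frobenius_def] at e
    rw [e]
    refine Finset.sum_congr rfl fun k _ => ?_
    rw [Pi.smul_apply, Pi.smul_apply, smul_eq_mul, smul_eq_mul, mul_pow, jj_sq, co_frob h2K hwK]
  · intro A AK hA g hg X
    have key : ∀ k, AK (Phi (ι ω) (fun k => jj K (φ (bs ω k))) ((bs ω k).map ι)) =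
        Phi (ι ω) (fun k => jj K (φ (bs ω k))) ((g : M3 F).map ι * (bs ω k).map ι * (ct (g : M3 F)).map ι) := by
      intro k
      have hh : HF (hact g (bs ω k)) := by
        have hbk : ct (bs ω k) = bs ω k := hb k
        show ct ((g : M3 F) * bs ω k * ct (g : M3 F)) = _
        have hct : ∀ A B : M3 F, ct (A * B) = ct B * ct A := by
          intro A B
          have := charP_two h2
          unfold ct
          rw [show (A * B).map (fun a => a ^ 2) = A.map (fun a => a ^ 2) * B.map fun a => a ^ 2 from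
            Matrix.map_mul (f := frobenius F 2), Matrix.transpose_mul]
        have hcc : ct (ct (g : M3 F)) = g := by
          ext i j
          simp only [ct, Matrix.transpose_apply, Matrix.map_apply]
          rw [← pow_mul]
          exact pow_four hF _
        rw [hct, hct, hcc, hbk, ← mul_assoc]
        rfl
      rw [hval _ (hb k), hA, hg _ (hb k), ← hval _ hh]
      congr 1
      show (((g : M3 F) * bs ω k * ct (g : M3 F)).map ι) = _
      rw [Matrix.map_mul, Matrix.map_mul]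
    have e1 := dec h2K ι hω X
    conv_lhs => rw [← e1]
    conv_rhs => rw [← e1]
    rw [map_sum, map_sum, Matrix.mul_sum, Matrix.sum_mul, map_sum]
    refine Finset.sum_congr rfl fun k _ => ?_
    rw [map_smul, map_smul, key k, Matrix.mul_smul, Matrix.smul_mul, map_smul]
  · intro X
    rw [Phi_apply]
    exact Submodule.sum_mem _ fun k _ => Submodule.smul_mem _ _ (Submodule.subset_span ⟨_, hb k, rfl⟩)

end Phi

/-- **row N1** : the linear map over `K` of a submodule of type 9 -/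
theorem exists_nine_Phi [Fintype F] (hF : Fintype.card F = 4) (ι : F →+* K) {I : Type} [Finite I]
    {ρ : Representation (ZMod 2) (G3 F) (I → ZMod 2)} {b : Bool} {W : Submodule (ZMod 2) (I → ZMod 2)}
    (h : IsNine ρ b W) :
    ∃ Φ : Matrix (Fin 3) (Fin 3) K →ₗ[K] (I → K), Function.Injective Φ ∧
      (∀ v, v ∈ W ↔ ∃ X, HF X ∧ Φ (X.map ι) = jj K v) ∧
      (∀ X, HF X → ∃ v ∈ W, Φ (X.map ι) = jj K v) ∧
      (∀ X i, Φ (X.map fun a => a ^ 2).transpose i = Φ X i ^ 2) ∧
      (∀ X, Φ X ∈ Submodule.span K {u | ∃ v ∈ W, u = jj K v}) ∧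
      ∀ (g : G3 F) (AK : (I → K) →ₗ[K] (I → K)), (∀ v, AK (jj K v) = jj K (ρ g v)) →
        ∀ X, AK (Φ X) = Φ ((tw b g : M3 F).map ι * X * (ct (tw b g : M3 F)).map ι) := by
  obtain ⟨φ, h1, h0, hW, hg⟩ := h
  obtain ⟨Φ, i1, i2, i3, i4, i5⟩ := exists_Phi (K := K) hF ι h1 h0
  have hjj : ∀ u v : I → ZMod 2, jj K u = jj K v → u = v := by
    intro u v huv
    funext i
    have e := congrFun huv i
    unfold jj at e
    rcases zmod_two (u i) with a | a <;> rcases zmod_two (v i) with c | c <;> rw [a, c] at e ⊢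
    · simp at e
    · simp at e
  refine ⟨Φ, i1, ?_, ?_, i3, ?_, ?_⟩
  · intro v
    constructor
    · intro hv
      obtain ⟨X, hX, rfl⟩ := (hW v).1 hv
      exact ⟨X, hX, i2 X hX⟩
    · rintro ⟨X, hX, hv⟩
      rw [i2 X hX] at hv
      exact (hW v).2 ⟨X, hX, hjj _ _ hv⟩
  · intro X hX
    exact ⟨φ X, (hW _).2 ⟨X, hX, rfl⟩, i2 X hX⟩
  · intro X
    refine Submodule.span_mono ?_ (i5 X)
    rintro _ ⟨Y, hY, rfl⟩
    exact ⟨φ Y, (hW _).2 ⟨Y, hY, rfl⟩, rfl⟩
  · intro g AK hA X
    exact i4 (fun v => ρ g v) AK hA (tw b g) (fun Y hY => hg g Y hY) X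

end

end Cfsg.Agent.H436.L34


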